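import Mathlib

set_option autoImplicit false

universe u v

open PowerSeries

namespace Groth.Agent.Crimp15

variable {k : Type u} [Field k] {L : Type v} [CommRing L] [Algebra k⟦X⟧ L]
variable (B : Module.Basis (Fin 2) k⟦X⟧ L) (m : ℕ)

/-- The crimp `R ⋅ 1 + tⁿ L`. -/
noncomputable abbrev crimp (k : Type u) [Field k] (L : Type v) [CommRing L] [Algebra k⟦X⟧ L] (n : ℕ) : Submodule k⟦X⟧ L :=
  Submodule.span k⟦X⟧ {(1 : L)} ⊔ Ideal.span {(PowerSeries.X : k⟦X⟧) ^ n} • (⊤ : Submodule k⟦X⟧ L)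

theorem mem_crimp (h0 : B 0 = 1) (n : ℕ) (x : L) : x ∈ crimp k L n ↔ (PowerSeries.X : k⟦X⟧) ^ n ∣ B.repr x 1 := by
  have hx : ∀ y : L, y = B.repr y 0 • (1 : L) + B.repr y 1 • B 1 := fun y => by
    conv_lhs => rw [← B.sum_repr y]
    rw [Fin.sum_univ_two, h0]
  constructor
  · intro h
    obtain ⟨a, ha, b, hb, rfl⟩ := Submodule.mem_sup.1 h
    obtain ⟨r, rfl⟩ := Submodule.mem_span_singleton.1 ha
    rw [Submodule.ideal_span_singleton_smul] at hb
    obtain ⟨c, -, rfl⟩ := Submodule.mem_smul_pointwise_iff_exists _ _ _ |>.1 hb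
    simp [← h0, Finsupp.single_apply]
  · rintro ⟨c, hc⟩
    rw [hx x, hc, mul_smul]
    exact Submodule.add_mem_sup (Submodule.smul_mem _ _ (Submodule.mem_span_singleton_self _))
      (Submodule.smul_mem_smul (Ideal.mem_span_singleton_self _) Submodule.mem_top)

theorem exists_basis (h0 : B 0 = 1) (hw : B 1 * B 1 = algebraMap k⟦X⟧ L (PowerSeries.X ^ m)) (n : ℕ)
    (S : Subalgebra k⟦X⟧ L) (hS : Subalgebra.toSubmodule S = crimp k L n) :
    ∃ b : Module.Basis (Fin 2) k⟦X⟧ S, b 0 = 1 ∧ b 1 * b 1 = algebraMap k⟦X⟧ S (PowerSeries.X ^ (2 * n + m)) := by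
  have hmem : ∀ x, x ∈ S ↔ (PowerSeries.X : k⟦X⟧) ^ n ∣ B.repr x 1 := fun x => by
    rw [← Subalgebra.mem_toSubmodule, hS, mem_crimp B h0]
  have hy : (PowerSeries.X : k⟦X⟧) ^ n • B 1 ∈ S := (hmem _).2 (by simp)
  let v : Fin 2 → S := ![1, ⟨(PowerSeries.X : k⟦X⟧) ^ n • B 1, hy⟩]
  have hXn : (PowerSeries.X : k⟦X⟧) ^ n ≠ 0 := pow_ne_zero _ PowerSeries.X_ne_zero
  have hli : LinearIndependent k⟦X⟧ v := by
    refine LinearIndependent.of_comp S.val.toLinearMap ?_
    have e : (⇑S.val.toLinearMap ∘ v) = fun i => (![1, (PowerSeries.X : k⟦X⟧) ^ n] : Fin 2 → k⟦X⟧) i • B i := by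
      funext i; fin_cases i <;> simp [v, h0]
    rw [e, Fintype.linearIndependent_iff]
    intro g hg i
    have h1 := Fintype.linearIndependent_iff.1 B.linearIndependent (fun i => g i * (![1, (PowerSeries.X : k⟦X⟧) ^ n] : Fin 2 → k⟦X⟧) i) (by
      rw [← hg]; exact Finset.sum_congr rfl fun i _ => mul_smul _ _ _) i
    fin_cases i
    · simpa using h1
    · simpa [hXn] using h1
  have hsp : ⊤ ≤ Submodule.span k⟦X⟧ (Set.range v) := by
    rintro ⟨x, hx⟩ -
    obtain ⟨c, hc⟩ := (hmem x).1 hx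
    rw [Submodule.mem_span_range_iff_exists_fun]
    refine ⟨![B.repr x 0, c], Subtype.ext ?_⟩
    show _ = x
    conv_rhs => rw [← B.sum_repr x, Fin.sum_univ_two, hc, mul_smul, smul_comm, h0]
    simp [v, Fin.sum_univ_two]
  refine ⟨Module.Basis.mk hli hsp, by simp [v], Subtype.ext ?_⟩
  rw [Module.Basis.mk_apply, MulMemClass.coe_mul]
  show ((PowerSeries.X : k⟦X⟧) ^ n • B 1) * ((PowerSeries.X : k⟦X⟧) ^ n • B 1) = algebraMap k⟦X⟧ L _
  rw [smul_mul_smul_comm, hw, ← pow_add, Algebra.smul_def, ← map_mul, ← pow_add, two_mul]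

theorem discr_eq {S : Type v} [CommRing S] [Algebra k⟦X⟧ S] (b : Module.Basis (Fin 2) k⟦X⟧ S) (c : k⟦X⟧)
    (h0 : b 0 = 1) (h1 : b 1 * b 1 = algebraMap k⟦X⟧ S c) : Algebra.discr k⟦X⟧ ⇑b = 4 * c := by
  haveI := Module.Free.of_basis b
  haveI := Module.Finite.of_basis b
  have ht1 : Algebra.trace k⟦X⟧ S (b 1) = 0 := by
    rw [Algebra.trace_eq_matrix_trace b, Matrix.trace_fin_two, Algebra.leftMulMatrix_eq_repr_mul, Algebra.leftMulMatrix_eq_repr_mul,
      h1, h0, mul_one, Algebra.algebraMap_eq_smul_one, map_smul, ← h0]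
    simp
  have htr : ∀ r : k⟦X⟧, Algebra.trace k⟦X⟧ S (algebraMap k⟦X⟧ S r) = 2 * r := fun r => by
    rw [Algebra.trace_algebraMap_of_basis b, Fintype.card_fin, two_smul, two_mul]
  have ht0 : Algebra.trace k⟦X⟧ S (1 : S) = 2 := by rw [← map_one (algebraMap k⟦X⟧ S), htr, mul_one]
  rw [Algebra.discr_def, Matrix.det_fin_two]
  simp only [Algebra.traceMatrix_apply, Algebra.traceForm_apply, h0, one_mul, mul_one, h1, ht1, ht0, htr]
  ring

theorem span_discr_eq {S : Type v} [CommRing S] [Algebra k⟦X⟧ S] (b b' : Module.Basis (Fin 2) k⟦X⟧ S) :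
    Ideal.span {Algebra.discr k⟦X⟧ ⇑b} = Ideal.span {Algebra.discr k⟦X⟧ ⇑b'} := by
  have h : IsUnit ((b'.toMatrix ⇑b).det) := by
    refine IsUnit.of_mul_eq_one (b.toMatrix ⇑b').det ?_
    rw [← Matrix.det_mul, b'.toMatrix_mul_toMatrix_flip b, Matrix.det_one]
  conv_lhs => rw [← b'.toMatrix_map_vecMul (⇑b)]
  rw [Algebra.discr_of_matrix_vecMul]
  exact Ideal.span_singleton_mul_left_unit (h.pow 2) _

theorem main [CharZero k] (h0 : B 0 = 1) (hw : B 1 * B 1 = algebraMap k⟦X⟧ L (PowerSeries.X ^ m)) (b : ℕ)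
    (S : Subalgebra k⟦X⟧ L) :
    ((∃ bS : Module.Basis (Fin 2) k⟦X⟧ S,
      Ideal.span {Algebra.discr k⟦X⟧ ⇑bS} = Ideal.span {(PowerSeries.X : k⟦X⟧) ^ b}) ↔
    ∃ n : ℕ, b = 2 * n + m ∧ Subalgebra.toSubmodule S = crimp k L n) ∧
    ∀ n : ℕ, Subalgebra.toSubmodule S = crimp k L n →
      Nonempty (S ≃ₐ[k⟦X⟧] AdjoinRoot (Polynomial.X ^ 2 - Polynomial.C ((PowerSeries.X : k⟦X⟧) ^ (2 * n + m)))) := by
  have h4 : IsUnit (4 : k⟦X⟧) := by
    rw [show (4 : k⟦X⟧) = PowerSeries.C (4 : k) from (map_ofNat _ 4).symm]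
    exact (IsUnit.mk0 _ (by norm_num)).map _
  refine ⟨⟨?_, ?_⟩, ?_⟩
  · rintro ⟨bS, hbS⟩
    let I : Ideal k⟦X⟧ := (Subalgebra.toSubmodule S).map (B.coord 1)
    have hI0 : I ≠ ⊥ := by
      intro hI
      have hz : ∀ i, B.repr (bS i : L) 1 = 0 := fun i => by
        have : B.coord 1 (bS i : L) ∈ I := Submodule.mem_map_of_mem (bS i).2
        rwa [hI, Submodule.mem_bot] at this
      have hB : ∀ i, (bS i : L) = B.repr (bS i : L) 0 • (1 : L) := fun i => by
        conv_lhs => rw [← B.sum_repr (bS i : L)]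
        rw [Fin.sum_univ_two, hz, zero_smul, add_zero, h0]
      have hli := bS.linearIndependent.map' S.val.toLinearMap (LinearMap.ker_eq_bot.2 Subtype.val_injective)
      rw [Fintype.linearIndependent_iff] at hli
      by_cases hr : B.repr (bS 0 : L) 0 = 0
      · exact bS.ne_zero 0 (Subtype.ext (by rw [hB, hr, zero_smul]; rfl))
      · have := hli ![- B.repr (bS 1 : L) 0, B.repr (bS 0 : L) 0] (by
          simp only [Fin.sum_univ_two, Function.comp_apply, AlgHom.toLinearMap_apply, Subalgebra.coe_val, Matrix.cons_val_zero, Matrix.cons_val_one]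
          calc -B.repr (bS 1 : L) 0 • (bS 0 : L) + B.repr (bS 0 : L) 0 • (bS 1 : L)
              = -B.repr (bS 1 : L) 0 • (B.repr (bS 0 : L) 0 • (1 : L)) + B.repr (bS 0 : L) 0 • (B.repr (bS 1 : L) 0 • (1 : L)) := by rw [← hB 0, ← hB 1]
            _ = 0 := by rw [smul_smul, smul_smul, ← add_smul]; convert zero_smul k⟦X⟧ (1 : L); ring) 1
        exact hr (by simpa using this)
    obtain ⟨n, hn⟩ := IsDiscreteValuationRing.ideal_eq_span_pow_irreducible hI0 PowerSeries.X_irreducible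
    have hS : Subalgebra.toSubmodule S = crimp k L n := by
      ext x
      rw [mem_crimp B h0, ← Ideal.mem_span_singleton, ← hn]
      refine ⟨fun hx => Submodule.mem_map_of_mem hx, fun hx => ?_⟩
      obtain ⟨y, hy, hyx⟩ := Submodule.mem_map.1 hx
      have : x = y + (B.repr x 0 - B.repr y 0) • (1 : L) := by
        refine B.ext_elem fun i => ?_
        rw [← h0, map_add, map_smul, Module.Basis.repr_self]
        fin_cases i
        · simp
        · simp; exact hyx.symm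
      rw [this]
      exact Submodule.add_mem _ hy (Submodule.smul_mem _ _ S.one_mem)
    obtain ⟨b', hb0, hb1⟩ := exists_basis B m h0 hw n S hS
    refine ⟨n, ?_, hS⟩
    rw [span_discr_eq bS b', discr_eq b' _ hb0 hb1, Ideal.span_singleton_mul_left_unit h4] at hbS
    have h5 := Ideal.span_singleton_eq_span_singleton.1 hbS
    exact le_antisymm ((pow_dvd_pow_iff PowerSeries.X_ne_zero PowerSeries.X_irreducible.not_isUnit).1 h5.dvd')
      ((pow_dvd_pow_iff PowerSeries.X_ne_zero PowerSeries.X_irreducible.not_isUnit).1 h5.dvd)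
  · rintro ⟨n, rfl, hS⟩
    obtain ⟨b', hb0, hb1⟩ := exists_basis B m h0 hw n S hS
    exact ⟨b', by rw [discr_eq b' _ hb0 hb1, Ideal.span_singleton_mul_left_unit h4]⟩
  · intro n hS
    obtain ⟨b', hb0, hb1⟩ := exists_basis B m h0 hw n S hS
    set f := Polynomial.X ^ 2 - Polynomial.C ((PowerSeries.X : k⟦X⟧) ^ (2 * n + m))
    have hf : f.Monic := Polynomial.monic_X_pow_sub_C _ two_ne_zero
    have hd : f.natDegree = 2 := Polynomial.natDegree_X_pow_sub_C
    let pb := (AdjoinRoot.powerBasis' hf)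
    let φ : AdjoinRoot f →ₐ[k⟦X⟧] S := AdjoinRoot.liftAlgHom f (Algebra.ofId _ _) (b' 1) (by
      simp [f, pow_two, hb1])
    let e : Module.Basis (Fin 2) k⟦X⟧ (AdjoinRoot f) := pb.basis.reindex (finCongr (show pb.dim = 2 from hd))
    have he : (b' : Fin 2 → S) = φ ∘ e := by
      funext i
      fin_cases i <;> simp [e, pb, φ, hb0]
    have hbij : Function.Bijective φ := by
      have h2 : φ.toLinearMap = (e.equiv b' (Equiv.refl _)).toLinearMap := e.ext fun i => by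
        rw [LinearEquiv.coe_coe, Module.Basis.equiv_apply, Equiv.refl_apply, he]
        rfl
      have h3 : ⇑φ = ⇑(e.equiv b' (Equiv.refl _)) := congrArg (fun l : AdjoinRoot f →ₗ[k⟦X⟧] S => ⇑l) h2
      rw [h3]; exact LinearEquiv.bijective _
    exact ⟨(AlgEquiv.ofBijective φ hbij).symm⟩

end Groth.Agent.Crimp15
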